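import Cfsg.Agent.Lib.FTConsumers.Hyp
import Cfsg.Agent.Lib.CoprimeGen.Fixed
import Mathlib.GroupTheory.QuotientGroup.Basic

/-!
# Generation of coprime fixed points inside an odd group acted on by an abelian 2-group
-/

set_option autoImplicit false
set_option linter.style.haveILetI false

namespace Cfsg.Agent.FTConsumersB

open Subgroup
open scoped commutatorElement

universe u

theorem map_subtype_inf_centralizer {G : Type u} [Group G] (H : Subgroup G) (K C : Subgroup H) :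
    (K ⊓ centralizer (C : Set H)).map H.subtype =
      K.map H.subtype ⊓ centralizer ((C.map H.subtype : Subgroup G) : Set G) := by
  refine le_antisymm ?_ ?_
  · rintro _ ⟨x, hx, rfl⟩
    refine ⟨mem_map_of_mem _ hx.1, mem_centralizer_iff.2 ?_⟩
    rintro _ ⟨c, hc, rfl⟩
    rw [← map_mul, ← map_mul, mem_centralizer_iff.1 hx.2 c hc]
  · rintro _ ⟨⟨x, hx, rfl⟩, hc⟩
    exact ⟨x, ⟨hx, mem_centralizer_iff.2 fun c hcC =>
      Subtype.ext (mem_centralizer_iff.1 hc _ (mem_map_of_mem H.subtype hcC))⟩, rfl⟩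

theorem cocyclic_inf {G : Type u} [Group G] {A B A₁ : Subgroup G} [IsMulCommutative A]
    (hB : B ≤ A) (hA₁ : A₁ ≤ A) {a : G} (ha : a ∈ A) (hgen : A₁ ⊔ zpowers a = A)
    [((A₁ ⊓ B).subgroupOf B).Normal] : IsCyclic (↥B ⧸ (A₁ ⊓ B).subgroupOf B) := by
  set N := A₁.subgroupOf A with hN
  haveI : N.Normal := ⟨fun n hn g => by rw [mul_comm' g n, mul_inv_cancel_right]; exact hn⟩
  haveI : IsCyclic (↥A ⧸ N) := by
    refine isCyclic_iff_exists_zpowers_eq_top.2 ⟨QuotientGroup.mk' N ⟨a, ha⟩, eq_top_iff.2 fun c _ => ?_⟩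
    obtain ⟨x, rfl⟩ := QuotientGroup.mk'_surjective N c
    have hn : zpowers a ≤ normalizer (A₁ : Set G) := (zpowers_le.2 ha).trans
      ((CoprimeGen.le_centralizer_self hA₁).trans (centralizer_le_normalizer _))
    obtain ⟨p, hp, q, hq, hpq⟩ := (Coprime.mem_sup_iff_of_le_normalizer' hn).1
      (show (x : G) ∈ zpowers a ⊔ A₁ by rw [sup_comm, hgen]; exact x.2)
    obtain ⟨i, rfl⟩ := hq
    simp only at hpq
    refine ⟨i, ?_⟩
    show (QuotientGroup.mk' N ⟨a, ha⟩) ^ i = _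
    rw [← map_zpow]
    refine ((QuotientGroup.eq (s := N)).2 ?_)
    rw [mem_subgroupOf]
    show ((a : G) ^ i)⁻¹ * (x : G) ∈ A₁
    rw [← hpq]
    have hc : Commute ((a ^ i)⁻¹) p := congrArg (fun z : A => (z : G))
      (mul_comm' (⟨(a ^ i)⁻¹, A.inv_mem (A.zpow_mem ha i)⟩ : A) ⟨p, hA₁ hp⟩)
    rw [← mul_assoc, hc.eq, inv_mul_cancel_right]
    exact hp
  let χ : B →* ↥A ⧸ N := (QuotientGroup.mk' N).comp (Subgroup.inclusion hB)
  have hker : χ.ker = (A₁ ⊓ B).subgroupOf B := by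
    ext b
    rw [MonoidHom.mem_ker, mem_subgroupOf]
    refine (QuotientGroup.eq_one_iff _).trans ?_
    rw [mem_subgroupOf]
    exact ⟨fun h => ⟨h, b.2⟩, fun h => h.1⟩
  exact isCyclic_of_surjective
    ((QuotientGroup.quotientMulEquivOfEq hker).toMonoidHom.comp
      (QuotientGroup.quotientKerEquivRange χ).symm.toMonoidHom)
    ((QuotientGroup.quotientMulEquivOfEq hker).surjective.comp
      (QuotientGroup.quotientKerEquivRange χ).symm.surjective)

theorem fixed_generation {G : Type u} [Group G] [Finite G] (hFT : FTConsumers.OddOrder.{u})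
    (A B Y : Subgroup G) (hA2 : IsPGroup 2 ↥A) (hAc : IsMulCommutative ↥A) (hB : B ≤ A)
    (hYodd : Odd (Nat.card ↥Y)) (hAY : A ≤ Subgroup.normalizer (Y : Set G)) (hYA : ⁅Y, A⁆ = Y) :
    Y ⊓ Subgroup.centralizer (B : Set G) = ⨆ B₀ : {B₀ : Subgroup G // B₀ ≤ B ∧
        ∀ [(B₀.subgroupOf B).Normal], IsCyclic (↥B ⧸ B₀.subgroupOf B)},
      Y ⊓ Subgroup.centralizer (B : Set G) ⊓
        ⁅Y ⊓ Subgroup.centralizer ((B₀ : Subgroup G) : Set G), A⁆ := by
  refine le_antisymm ?_ (iSup_le fun _ => inf_le_left)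
  set H := Y ⊔ A with hH
  set ι := H.subtype with hι
  have hYH : Y ≤ H := le_sup_left
  have hAH : A ≤ H := le_sup_right
  have eY : (Y.subgroupOf H).map ι = Y := map_subgroupOf_eq_of_le hYH
  have eA : (A.subgroupOf H).map ι = A := map_subgroupOf_eq_of_le hAH
  have eB : (B.subgroupOf H).map ι = B := map_subgroupOf_eq_of_le (hB.trans hAH)
  haveI : IsMulCommutative (A.subgroupOf H) := ⟨⟨fun p q => Subtype.ext (Subtype.ext
    (congrArg (fun z : A => (z : G)) (mul_comm' (⟨_, p.2⟩ : A) ⟨_, q.2⟩)))⟩⟩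
  obtain ⟨n, hn⟩ := IsPGroup.iff_card.1 hA2
  have hc := CoprimeGen.inf_centralizer_le_genSub (Nat.card (Y.subgroupOf H)) H (A.subgroupOf H)
    (B.subgroupOf H) (Y.subgroupOf H) rfl (fun x hx => hB hx)
    (fun x hx => mem_normalizer_iff.2 fun y => mem_normalizer_iff.1 (hAY hx) (y : G))
    (by rw [← subgroupOf_sup hYH hAH, subgroupOf_self])
    (by
      rw [Coprime.card_subgroupOf hAH, Coprime.card_subgroupOf hYH, hn]
      exact (Nat.coprime_two_left.2 hYodd).pow_left n)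
    (hFT _ (by rw [Coprime.card_subgroupOf hYH]; exact hYodd))
    (map_injective H.subtype_injective (by rw [map_commutator, ← hι, eY, eA, hYA]))
  have hmap := map_mono (f := ι) hc
  rw [hι, map_subtype_inf_centralizer, ← hι, eY, eB] at hmap
  refine hmap.trans ?_
  rw [CoprimeGen.genSub, Subgroup.map_iSup]
  refine iSup_le fun A₁ => ?_
  rw [Subgroup.map_iSup]
  refine iSup_le fun hA₁ => ?_
  obtain ⟨hle, a, ha, hgen⟩ := hA₁
  have hle' : A₁.map ι ≤ A := (map_mono hle).trans eA.le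
  have hgen' : A₁.map ι ⊔ zpowers (a : G) = A := by
    rw [← eA, ← hgen, Subgroup.map_sup, MonoidHom.map_zpowers]
    rfl
  refine le_trans ?_ (le_iSup (fun B₀ : {B₀ : Subgroup G // B₀ ≤ B ∧
      ∀ [(B₀.subgroupOf B).Normal], IsCyclic (↥B ⧸ B₀.subgroupOf B)} => _)
    ⟨A₁.map ι ⊓ B, inf_le_right, fun [_] => cocyclic_inf hB hle' (show (a : G) ∈ A from ha) hgen'⟩)
  refine (map_inf_le _ _ _).trans (inf_le_inf ?_ ?_)
  · rw [hι, map_subtype_inf_centralizer, ← hι, eY, eB]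
  · show _ ≤ ⁅Y ⊓ centralizer ((A₁.map ι ⊓ B : Subgroup G) : Set G), A⁆
    refine le_of_eq ?_
    rw [map_commutator, eA, map_subtype_inf_centralizer, eY, map_inf _ _ _ H.subtype_injective, eB]

end Cfsg.Agent.FTConsumersB
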