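import Cfsg.Agent.Lib.FTConsumers.Hyp
import Cfsg.Agent.Lib.ZStar.Main
import Cfsg.Agent.Lib.ZStar.Consumers

/-!
# Klein four-subgroups of non-cyclic simple groups, given the odd order theorem
-/

set_option autoImplicit false

namespace Cfsg.Agent.FTConsumersB

open Cfsg Subgroup

universe u

variable {G : Type u} [Group G] [Finite G]

/-- Two distinct commuting involutions generate a Klein four-group. -/
theorem isKleinFour_closure_pair {a b : G} (ha : orderOf a = 2) (hb : orderOf b = 2)
    (hab : a ≠ b) (hc : Commute a b) : IsKleinFour (closure ({a, b} : Set G)) := by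
  classical
  have ha2 : a * a = 1 := by have := pow_orderOf_eq_one a; rwa [ha, pow_two] at this
  have hb2 : b * b = 1 := by have := pow_orderOf_eq_one b; rwa [hb, pow_two] at this
  have hai : a⁻¹ = a := inv_eq_of_mul_eq_one_right ha2
  have hbi : b⁻¹ = b := inv_eq_of_mul_eq_one_right hb2
  have ha1 : a ≠ 1 := fun h => by simp [h] at ha
  have hb1 : b ≠ 1 := fun h => by simp [h] at hb
  have hmem : ∀ x : G, x ∈ closure ({a, b} : Set G) ↔ x = 1 ∨ x = a ∨ x = b ∨ x = a * b := by
    intro x
    constructor
    · intro hx
      refine closure_induction ?_ (Or.inl rfl) ?_ ?_ hx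
      · rintro y (rfl | rfl) <;> simp
      · have h1 : b * a = a * b := hc.eq.symm
        have h2 : b * (a * b) = a := by rw [← mul_assoc, h1, mul_assoc, hb2, mul_one]
        have h3 : a * b * a = b := by rw [mul_assoc, h1, ← mul_assoc, ha2, one_mul]
        have h4 : a * b * b = a := by rw [mul_assoc, hb2, mul_one]
        have h5 : a * (a * b) = b := by rw [← mul_assoc, ha2, one_mul]
        have h6 : a * b * (a * b) = 1 := by rw [← mul_assoc, h3, hb2]
        rintro p q - - (rfl | rfl | rfl | rfl) (rfl | rfl | rfl | rfl) <;>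
          simp [ha2, hb2, h1, h2, h3, h4, h5, h6]
      · rintro p - (rfl | rfl | rfl | rfl)
        · exact Or.inl inv_one
        · exact Or.inr (Or.inl hai)
        · exact Or.inr (Or.inr (Or.inl hbi))
        · exact Or.inr (Or.inr (Or.inr (by rw [mul_inv_rev, hai, hbi, hc.eq])))
    · rintro (rfl | rfl | rfl | rfl)
      · exact one_mem _
      · exact subset_closure (by simp)
      · exact subset_closure (by simp)
      · exact mul_mem (subset_closure (by simp)) (subset_closure (by simp))
  have hab1 : a * b ≠ 1 := fun h => hab (by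
    have := congrArg (· * b) h; simp [mul_assoc, hb2] at this; exact this)
  have hab2 : a * b ≠ a := fun h => hb1 (by simpa using h)
  have hab3 : a * b ≠ b := fun h => ha1 (by simpa using h)
  constructor
  · have hset : (closure ({a, b} : Set G) : Set G) = ↑({1, a, b, a * b} : Finset G) := by
      ext x; simp [hmem]
    rw [← SetLike.coe_sort_coe, hset, Nat.card_coe_set_eq, Set.ncard_coe_finset]
    rw [Finset.card_insert_of_notMem, Finset.card_insert_of_notMem, Finset.card_insert_of_notMem,
      Finset.card_singleton]
    · simpa using Ne.symm hab3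
    · simp [hab, Ne.symm hab2]
    · simp [Ne.symm ha1, Ne.symm hb1, Ne.symm hab1]
  · refine le_antisymm (Nat.le_of_dvd two_pos (Monoid.exponent_dvd_of_forall_pow_eq_one fun x => ?_)) ?_
    · apply Subtype.ext
      rw [pow_two, Subgroup.coe_mul, OneMemClass.coe_one]
      rcases (hmem _).1 x.2 with h | h | h | h <;> rw [h]
      · exact one_mul 1
      · exact ha2
      · exact hb2
      · rw [hc.symm.mul_mul_mul_comm, ha2, hb2, one_mul]
    · have h := Monoid.order_dvd_exponent (⟨a, subset_closure (by simp)⟩ :
        closure ({a, b} : Set G))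
      rw [Subgroup.orderOf_mk, ha] at h
      rcases Nat.eq_zero_or_pos (Monoid.exponent (closure ({a, b} : Set G))) with h0 | h0
      · exact absurd h0 Monoid.exponent_ne_zero_of_finite
      · exact Nat.le_of_dvd h0 h

theorem exists_kleinFour [IsSimpleGroup G] (hFT : FTConsumers.OddOrder.{u}) (hG : ¬ IsCyclic G) :
    ∃ E : Subgroup G, IsKleinFour E := by
  classical
  have hcomm : ¬ ∀ a b : G, a * b = b * a := fun h =>
    hG (letI : CommGroup G := { ‹Group G› with mul_comm := h }; inferInstance)
  have heven : 2 ∣ Nat.card G := by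
    by_contra h2
    have hs : Group.IsSolvable G := hFT G (Nat.not_even_iff_odd.mp fun h => h2 h.two_dvd)
    exact hcomm ((IsSimpleGroup.comm_iff_isSolvable).mpr hs)
  haveI : Fact (Nat.Prime 2) := ⟨Nat.prime_two⟩
  obtain ⟨u, hu⟩ := exists_prime_orderOf_dvd_card' 2 heven
  by_cases hiso : ∀ g : G, Commute u (g * u * g⁻¹) → g * u * g⁻¹ = u
  · exfalso
    have hz := ZStar.inZStar (z := u) ⟨hu, hiso⟩
    have hO : oddCore G = ⊥ := by
      rcases (inferInstance : (oddCore G).Normal).eq_bot_or_eq_top with h | h
      · exact h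
      · exfalso
        have hodd := PCore.odd_card_oddCore (G := G)
        rw [h, Subgroup.card_top] at hodd
        exact Nat.not_even_iff_odd.mpr hodd (even_iff_two_dvd.mpr heven)
    have hc := ZStar.mem_center_of_oddCore_eq_bot hz hO
    rcases (inferInstance : (center G).Normal).eq_bot_or_eq_top with h | h
    · rw [h, mem_bot] at hc; simp [hc] at hu
    · exact hcomm fun a b => (mem_center_iff.mp (h.symm ▸ mem_top b) a)
  · push Not at hiso
    obtain ⟨g, hc, hne⟩ := hiso
    exact ⟨_, isKleinFour_closure_pair hu (by
      rw [← MulAut.conj_apply, MulEquiv.orderOf_eq, hu]) (Ne.symm hne) hc⟩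

end Cfsg.Agent.FTConsumersB
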