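import Cfsg.Agent.Lib.FTConsumers.Hyp
import Cfsg.Agent.S0735
import Cfsg.Agent.S3360
import Cfsg.Prelude.Def_Perm
import Mathlib.FieldTheory.Finite.GaloisField
import Mathlib.Algebra.Module.ZMod

/-!
# 2-homogeneous groups which are not 2-transitive, given the odd order theorem
-/

set_option autoImplicit false
set_option linter.style.haveILetI false

namespace Cfsg.Agent.FTConsumersB

open scoped Pointwise

universe u

variable {α : Type u} [Fintype α] [DecidableEq α] (G : Subgroup (Equiv.Perm α))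

theorem three_le_card (hne : G ≠ ⊥) (hn2 : ¬ MulAction.IsMultiplyPretransitive G α 2) :
    3 ≤ Fintype.card α := by
  by_contra hlt
  push Not at hlt
  obtain ⟨⟨g, hg⟩, hg1⟩ := Subgroup.ne_bot_iff_exists_ne_one.1 hne
  have hg1' : g ≠ 1 := fun e => hg1 (Subtype.ext e)
  refine hn2 (MulAction.is_two_pretransitive_iff.2 fun {a b c d} hab hcd => ?_)
  have hcases : ∀ x : α, x = a ∨ x = b := by
    intro x
    by_contra hx
    push Not at hx
    have h3 : ({x, a, b} : Finset α).card = 3 := by
      rw [Finset.card_insert_of_notMem (by simp [hx.1, hx.2]), Finset.card_pair hab]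
    have := Finset.card_le_univ ({x, a, b} : Finset α)
    omega
  have hga : g a = b := by
    rcases hcases (g a) with h | h
    · exfalso
      refine hg1' (Equiv.ext fun x => ?_)
      rcases hcases x with rfl | rfl
      · exact h
      · rcases hcases (g x) with h' | h'
        · exact absurd (g.injective (h'.trans h.symm)) (Ne.symm hab)
        · exact h'
    · exact h
  have hgb : g b = a := by
    rcases hcases (g b) with h | h
    · exact h
    · exact absurd (g.injective (hga.trans h.symm)) hab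
  rcases hcases c with rfl | rfl <;> rcases hcases d with rfl | rfl
  · exact absurd rfl hcd
  · exact ⟨1, one_smul _ _, one_smul _ _⟩
  · exact ⟨⟨g, hg⟩, hga, hgb⟩
  · exact absurd rfl hcd

theorem exists_pair_smul (h2 : MulAction.IsPretransitive G (Set.powersetCard α 2)) {a b c d : α}
    (hab : a ≠ b) (hcd : c ≠ d) :
    ∃ g : G, (g • a = c ∧ g • b = d) ∨ (g • a = d ∧ g • b = c) := by
  obtain ⟨g, hg⟩ := h2.exists_smul_eq (Set.powersetCard.ofCard (Finset.card_pair hab))
    (Set.powersetCard.ofCard (Finset.card_pair hcd))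
  have hg' : g • ({a, b} : Finset α) = {c, d} := congrArg Subtype.val hg
  have ha : g • a ∈ ({c, d} : Finset α) := hg' ▸ Finset.smul_mem_smul_finset (by simp)
  have hb : g • b ∈ ({c, d} : Finset α) := hg' ▸ Finset.smul_mem_smul_finset (by simp)
  simp only [Finset.mem_insert, Finset.mem_singleton] at ha hb
  have hne : g • a ≠ g • b := fun e => hab (smul_left_cancel g e)
  refine ⟨g, ?_⟩
  rcases ha with ha | ha <;> rcases hb with hb | hb <;>
    first
      | exact Or.inl ⟨ha, hb⟩
      | exact Or.inr ⟨ha, hb⟩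
      | exact absurd (ha.trans hb.symm) hne

/-- A solvable primitive group has a normal regular elementary abelian subgroup. -/
theorem exists_regular [Group.IsSolvable G] [MulAction.IsPreprimitive G α] (hne : G ≠ ⊥) :
    ∃ (p : ℕ) (A : Subgroup G), p.Prime ∧ A.Normal ∧ (∀ a ∈ A, ∀ b ∈ A, a * b = b * a) ∧
      (∀ a ∈ A, a ^ p = 1) ∧ ∀ x : α, Function.Bijective fun a : A => (a : G) • x := by
  classical
  haveI : Nontrivial G := Subgroup.nontrivial_iff_ne_bot G |>.2 hne
  obtain ⟨A, hAn, hAc, hA1⟩ : ∃ A : Subgroup G, A.Normal ∧ (∀ a ∈ A, ∀ b ∈ A, a * b = b * a) ∧ A ≠ ⊥ := by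
    obtain ⟨n, hn⟩ := Group.IsSolvable.solvable (G := G)
    have h : ∀ m, derivedSeries G m = ⊥ → ∃ A : Subgroup G, A.Normal ∧
        (∀ a ∈ A, ∀ b ∈ A, a * b = b * a) ∧ A ≠ ⊥ := by
      intro m
      induction m with
      | zero => intro h; rw [derivedSeries_zero] at h; exact absurd h top_ne_bot
      | succ j ih =>
        intro hj
        by_cases hj0 : derivedSeries G j = ⊥
        · exact ih hj0
        · refine ⟨derivedSeries G j, derivedSeries_normal _ _, fun a ha b hb => ?_, hj0⟩
          rw [derivedSeries_succ] at hj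
          exact (Subgroup.commutator_eq_bot_iff_le_centralizer.1 hj hb) a ha
    exact h n hn
  have htr : ∀ B : Subgroup G, B.Normal → B ≠ ⊥ → MulAction.IsPretransitive B α := by
    intro B hB hB1
    refine MulAction.IsQuasiPreprimitive.isPretransitive_of_normal (G := G) ?_
    intro h
    refine hB1 (eq_bot_iff.2 fun b hb => Subgroup.mem_bot.2 (Subtype.ext (Equiv.ext fun x => ?_)))
    exact Set.eq_univ_iff_forall.1 h x ⟨b, hb⟩
  have hsemi : ∀ (x : α) (B : Subgroup G), B ≤ A → MulAction.IsPretransitive B α →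
      ∀ a ∈ A, a • x = x → a = 1 := by
    intro x B hBA hB a ha hax
    refine Subtype.ext (Equiv.ext fun y => ?_)
    obtain ⟨⟨b, hb⟩, rfl⟩ := hB.exists_smul_eq x y
    show a • (b • x) = b • x
    rw [← mul_smul, hAc a ha b (hBA hb), mul_smul, hax]
  haveI : Nontrivial A := (Subgroup.nontrivial_iff_ne_bot A).2 hA1
  obtain ⟨p, hp, hpd⟩ := Nat.exists_prime_and_dvd (Finite.one_lt_card (α := A)).ne'
  haveI := Fact.mk hp
  let B : Subgroup G :=
    { carrier := {a | a ∈ A ∧ a ^ p = 1}
      one_mem' := ⟨A.one_mem, one_pow p⟩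
      mul_mem' := fun {a b} ha hb => ⟨A.mul_mem ha.1 hb.1, by
        rw [(show Commute a b from hAc a ha.1 b hb.1).mul_pow, ha.2, hb.2, one_mul]⟩
      inv_mem' := fun {a} ha => ⟨A.inv_mem ha.1, by rw [inv_pow, ha.2, inv_one]⟩ }
  have hBn : B.Normal := ⟨fun b hb g => ⟨hAn.conj_mem b hb.1 g, by
    rw [conj_pow, hb.2, mul_one, mul_inv_cancel]⟩⟩
  have hB1 : B ≠ ⊥ := by
    intro h
    obtain ⟨a, ha⟩ := exists_prime_orderOf_dvd_card' p hpd
    have : (a : G) ∈ B := ⟨a.2, by
      rw [← Subgroup.coe_pow, ← ha, pow_orderOf_eq_one, Subgroup.coe_one]⟩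
    rw [h, Subgroup.mem_bot] at this
    rw [show a = 1 from Subtype.ext this, orderOf_one] at ha
    exact hp.ne_one ha.symm
  have hBt := htr B hBn hB1
  refine ⟨p, B, hp, hBn, fun a ha b hb => hAc a ha.1 b hb.1, fun a ha => ha.2, fun x => ⟨?_, ?_⟩⟩
  · intro a b hab
    have h1 : ((a : G)⁻¹ * b) • x = x := by
      rw [mul_smul]; exact inv_smul_eq_iff.2 hab.symm
    have := hsemi x B (fun b hb => hb.1) hBt _ (A.mul_mem (A.inv_mem a.2.1) b.2.1) h1
    exact Subtype.ext (inv_mul_eq_one.1 this)
  · intro y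
    obtain ⟨b, hb⟩ := hBt.exists_smul_eq x y
    exact ⟨b, hb⟩

variable {G}

/-- The affine structure given by a regular normal elementary abelian subgroup, written additively. -/
theorem kantor_of_regular {p : ℕ} [Fact p.Prime] {V : Type u} [AddCommGroup V] [Finite V]
    [Nontrivial V] [Module (ZMod p) V] [Group.IsSolvable G] (hodd : Odd (Nat.card G))
    (hp2 : p ≠ 2) (hVp : ∀ v : V, p • v = 0)
    (h2 : MulAction.IsPretransitive G (Set.powersetCard α 2))
    (φ : V ≃ α) (T : V → G) (hT : ∀ v w : V, T v • φ w = φ (v + w))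
    (hnorm : ∀ (g : G) (v : V), ∃ w, g * T v * g⁻¹ = T w) :
    ∃ (p' f : ℕ) (_ : Fact p'.Prime), p' ≠ 2 ∧ Fintype.card α = p' ^ f ∧
      p' ^ f % 4 = 3 ∧ ∃ e : α ≃ GaloisField p' f,
        (∀ g : G, e.symm.trans (((g : Equiv.Perm α)).trans e) ∈
          Cfsg.semiaffineGroup (GaloisField p' f)) ∧
        ∀ b : GaloisField p' f, ∃ g : G, ∀ x : α, e ((g : Equiv.Perm α) x) = e x + b := by
  classical
  have hp : p.Prime := Fact.out
  have hcardV : Nat.card V = Fintype.card α := by
    rw [← Nat.card_eq_fintype_card]; exact Nat.card_congr φ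
  set x0 := φ 0 with hx0
  set G0 := MulAction.stabilizer G x0 with hG0
  let cf : G → V → V := fun g v => φ.symm (g • φ v)
  have hcf : ∀ (g : G) (v : V), φ (cf g v) = g • φ v := fun g v => φ.apply_symm_apply _
  have hadd : ∀ g ∈ G0, ∀ v w : V, cf g (v + w) = cf g v + cf g w := by
    intro g hg v w
    obtain ⟨u, hu⟩ := hnorm g v
    have h1 : ∀ w, g • φ (v + w) = φ (u + cf g w) := fun w => by
      rw [← hT v w, ← hT u, hcf, ← hu, ← mul_smul, ← mul_smul, inv_mul_cancel_right]
    have hu' : cf g v = u := by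
      apply φ.injective
      have h2 := h1 0
      rw [add_zero, show cf g 0 = 0 from φ.injective (by rw [hcf]; exact hg), add_zero] at h2
      rw [hcf, h2]
    exact φ.injective (by rw [hcf, h1, hu'])
  let c0 : G0 → (V ≃+ V) := fun g =>
    { toFun := cf (g : G)
      invFun := cf (g : G)⁻¹
      left_inv := fun v => φ.injective (by rw [hcf, hcf, inv_smul_smul])
      right_inv := fun v => φ.injective (by rw [hcf, hcf, smul_inv_smul])
      map_add' := hadd g g.2 }
  let c : G0 →* (V ≃ₗ[ZMod p] V) :=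
    { toFun := fun g =>
        { c0 g with map_smul' := fun r v => ZMod.map_smul (c0 g).toAddMonoidHom r v }
      map_one' := LinearEquiv.ext fun v => φ.injective
        (show φ (cf ((1 : G0) : G) v) = φ v by rw [hcf, Subgroup.coe_one, one_smul])
      map_mul' := fun g h => LinearEquiv.ext fun v => φ.injective
        (show φ (cf ((g * h : G0) : G) v) = φ (cf (g : G) (cf (h : G) v)) by
          rw [hcf, hcf, hcf, Subgroup.coe_mul, mul_smul]) }
  have hcx : ∀ (g : G0) (v : V), φ (c g v) = (g : G) • φ v := fun g v => hcf g v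
  have hc_inj : ∀ g : G0, (∀ v : V, c g v = v) → g = 1 := by
    intro g hg
    refine Subtype.ext (Subtype.ext (Equiv.ext fun y => ?_))
    obtain ⟨a, rfl⟩ := φ.surjective y
    have := hcx g a
    rw [hg] at this
    exact this.symm
  have htrans : ∀ v w : V, v ≠ 0 → w ≠ 0 → ∃ g : G0, c g v = w ∨ c g v = -w := by
    intro v w hv hw
    have hne0 : ∀ u : V, u ≠ 0 → x0 ≠ φ u := fun u hu e => hu (φ.injective e.symm)
    obtain ⟨g, hg⟩ := exists_pair_smul G h2 (hne0 v hv) (hne0 w hw)
    rcases hg with ⟨h0, h1⟩ | ⟨h0, h1⟩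
    · refine ⟨⟨g, h0⟩, Or.inl (φ.injective ?_)⟩
      rw [hcx]; exact h1
    · have h0' : T (-w) * g ∈ G0 := by
        show (T (-w) * g) • x0 = x0
        rw [mul_smul, h0, hT, neg_add_cancel]
      refine ⟨⟨_, h0'⟩, Or.inr (φ.injective ?_)⟩
      rw [hcx]
      show (T (-w) * g) • φ v = φ (-w)
      rw [mul_smul, h1, hx0, hT, add_zero]
  -- adjoin `-1`
  let sgn : Multiplicative (ZMod 2) →* (V ≃ₗ[ZMod p] V) :=
    { toFun := fun s => if s = 1 then LinearEquiv.refl (ZMod p) V else LinearEquiv.neg (ZMod p)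
      map_one' := if_pos rfl
      map_mul' := by
        intro a b
        have hab : ∀ a b : Multiplicative (ZMod 2), a ≠ 1 → b ≠ 1 → a * b = 1 := by decide
        by_cases ha : a = 1
        · subst ha; rw [one_mul, if_pos rfl]; exact (one_mul _).symm
        by_cases hb : b = 1
        · subst hb; rw [mul_one, if_pos rfl]; exact (mul_one _).symm
        rw [hab a b ha hb, if_pos rfl, if_neg ha, if_neg hb]
        exact LinearEquiv.ext fun v => (neg_neg v).symm }
  have hcomm : ∀ (g : G0) (s : Multiplicative (ZMod 2)), Commute (c g) (sgn s) := by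
    intro g s
    refine LinearEquiv.ext fun v => ?_
    show c g (sgn s v) = sgn s (c g v)
    show c g ((if s = 1 then LinearEquiv.refl (ZMod p) V else LinearEquiv.neg (ZMod p)) v) =
      (if s = 1 then LinearEquiv.refl (ZMod p) V else LinearEquiv.neg (ZMod p)) (c g v)
    split <;> simp
  let ρ : G0 × Multiplicative (ZMod 2) →* (V ≃ₗ[ZMod p] V) := c.noncommCoprod sgn hcomm
  have hneg : ∀ v : V, v = -v → v = 0 := by
    intro v hv
    have h2v : ((2 : ℕ) : ZMod p) • v = 0 := by
      rw [Nat.cast_smul_eq_nsmul, two_nsmul]; exact eq_neg_iff_add_eq_zero.1 hv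
    refine (smul_eq_zero.1 h2v).resolve_left fun h => ?_
    exact hp2 ((Nat.prime_dvd_prime_iff_eq hp Nat.prime_two).1 ((ZMod.natCast_eq_zero_iff _ _).1 h))
  have hnoneg : ∀ (g : G0) (v : V), c g v = -v → v = 0 := by
    intro g v hgv
    obtain ⟨k, hk⟩ : ∃ k, orderOf g = 2 * k + 1 := by
      obtain ⟨k, hk⟩ := (hodd.of_dvd_nat ((orderOf_dvd_natCard g).trans
        (Subgroup.card_subgroup_dvd_card G0)) : Odd (orderOf g))
      exact ⟨k, hk⟩
    have hpow : ∀ m, c (g ^ (2 * m)) v = v := by
      intro m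
      induction m with
      | zero => simp
      | succ j ih =>
        rw [show 2 * (j + 1) = 2 + 2 * j by ring, pow_add, map_mul, LinearEquiv.mul_apply, ih,
          pow_two, map_mul, LinearEquiv.mul_apply, hgv, map_neg, hgv, neg_neg]
    have h := pow_orderOf_eq_one g
    rw [hk, pow_succ'] at h
    have h' : c (g * g ^ (2 * k)) v = v := by rw [h, map_one]; rfl
    rw [map_mul, LinearEquiv.mul_apply, hpow, hgv] at h'
    exact hneg v h'.symm
  have hρinj : Function.Injective ρ := by
    rw [injective_iff_map_eq_one]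
    rintro ⟨g, s⟩ h
    obtain ⟨v, hv⟩ := exists_ne (0 : V)
    have h' : ∀ v : V, c g (sgn s v) = v := fun v => LinearEquiv.congr_fun h v
    by_cases hs : s = 1
    · subst hs
      rw [hc_inj g fun v => by simpa using h' v]
      rfl
    · exfalso
      have := h' v
      rw [show sgn s = LinearEquiv.neg (ZMod p) from if_neg hs, LinearEquiv.neg_apply, map_neg,
        neg_eq_iff_eq_neg] at this
      exact hv (hnoneg g v this)
  have hρtrans : ∀ v w : V, v ≠ 0 → w ≠ 0 → ∃ h : G0 × Multiplicative (ZMod 2), ρ h v = w := by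
    intro v w hv hw
    obtain ⟨g, hg | hg⟩ := htrans v w hv hw
    · exact ⟨(g, 1), by show c g (sgn 1 v) = w; rw [map_one]; exact hg⟩
    · refine ⟨(g, Multiplicative.ofAdd 1), ?_⟩
      show c g (sgn (Multiplicative.ofAdd 1) v) = w
      rw [show sgn (Multiplicative.ofAdd (1 : ZMod 2)) = LinearEquiv.neg (ZMod p) from
        if_neg (t := LinearEquiv.refl (ZMod p) V) (show Multiplicative.ofAdd (1 : ZMod 2) ≠ 1 by decide),
        LinearEquiv.neg_apply, map_neg, hg, neg_neg]
  haveI : Group.IsSolvable G0 := inferInstance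
  have hmod : Nat.card V % 4 = 3 := by
    obtain ⟨v, hv⟩ := exists_ne (0 : V)
    set O := Set.range fun g : G0 => c g v with hO
    have hcov : {w : V | w ≠ 0} = O ∪ Neg.neg '' O := by
      ext w
      constructor
      · intro hw
        obtain ⟨g, hg | hg⟩ := htrans v w hv hw
        · exact Or.inl ⟨g, hg⟩
        · exact Or.inr ⟨c g v, ⟨g, rfl⟩, by rw [hg, neg_neg]⟩
      · rintro (⟨g, rfl⟩ | ⟨_, ⟨g, rfl⟩, rfl⟩)
        · exact (LinearEquiv.map_ne_zero_iff _).2 hv
        · exact neg_ne_zero.2 ((LinearEquiv.map_ne_zero_iff _).2 hv)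
    have hdis : Disjoint O (Neg.neg '' O) := by
      rw [Set.disjoint_left]
      rintro _ ⟨g, rfl⟩ ⟨_, ⟨h, rfl⟩, hgh⟩
      refine hv (hnoneg (h⁻¹ * g) v ?_)
      rw [map_mul, LinearEquiv.mul_apply]
      show c h⁻¹ (c g v) = -v
      rw [← show -(c h v) = c g v from hgh, map_neg, ← LinearEquiv.mul_apply, ← map_mul,
        inv_mul_cancel, map_one]
      rfl
    have hoddO : Odd O.ncard := by
      letI : MulAction G0 V :=
        { smul := fun g w => c g w
          one_smul := fun w => by show c 1 w = w; rw [map_one]; rfl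
          mul_smul := fun g h w => by show c (g * h) w = c g (c h w); rw [map_mul]; rfl }
      rw [show O = MulAction.orbit G0 v from rfl, ← Nat.card_coe_set_eq]
      refine hodd.of_dvd_nat (dvd_trans ?_ (Subgroup.card_subgroup_dvd_card G0))
      rw [Nat.card_congr (MulAction.orbitEquivQuotientStabilizer G0 v), ← Subgroup.index_eq_card]
      exact Subgroup.index_dvd_card _
    have hsum : Nat.card V = O.ncard + O.ncard + 1 := by
      have h1 := Set.ncard_union_eq hdis (Set.toFinite _) (Set.toFinite _)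
      rw [← hcov, Set.ncard_image_of_injective _ neg_injective] at h1
      have h2' := Set.ncard_add_ncard_compl {w : V | w ≠ 0}
      rw [show ({w : V | w ≠ 0})ᶜ = {0} by ext w; simp, Set.ncard_singleton, h1] at h2'
      omega
    obtain ⟨m, hm⟩ := hoddO
    omega
  rcases S3360.result p (G := G0 × Multiplicative (ZMod 2)) inferInstance ρ hρinj hρtrans with
    ⟨F, iF, iFF, e, he⟩ | hex
  swap
  · exfalso
    simp only [Set.mem_insert_iff, Set.mem_singleton_iff] at hex
    omega
  obtain ⟨f, hf⟩ : ∃ f, Nat.card V = p ^ f :=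
    ⟨_, by rw [Module.natCard_eq_pow_finrank (K := ZMod p), Nat.card_zmod]⟩
  haveI : CharP F p := (CharP.charP_iff_prime_eq_zero hp).2 (by
    rw [← nsmul_one, ← e.apply_symm_apply 1, ← map_nsmul, hVp, map_zero])
  letI := ZMod.algebra F p
  have hFcard : Nat.card F = p ^ f := by rw [← Nat.card_congr e.toEquiv, hf]
  let j : F ≃+* GaloisField p f := (GaloisField.algEquivGaloisField p f hFcard).toRingEquiv
  let E : α ≃ GaloisField p f := φ.symm.trans (e.toEquiv.trans j.toEquiv)
  have hE : ∀ b : V, E (φ b) = j (e b) := fun b => by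
    show j (e (φ.symm (φ b))) = _
    rw [φ.symm_apply_apply]
  refine ⟨p, f, inferInstance, hp2, by rw [← hcardV, hf], by rw [← hf]; exact hmod, E, ?_, ?_⟩
  · intro g
    obtain ⟨a, ha⟩ := φ.surjective (g • x0)
    have hh : T (-a) * g ∈ G0 := by
      show (T (-a) * g) • x0 = x0
      rw [mul_smul, ← ha, hT, neg_add_cancel]
    obtain ⟨k, σ, hk⟩ := he (⟨_, hh⟩, 1)
    have hk' : ∀ w : V, e (c ⟨_, hh⟩ w) = k * σ (e w) := fun w => by
      rw [← hk]
      show _ = e (c ⟨_, hh⟩ (sgn 1 w))
      rw [map_one]; rfl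
    have hk0 : k ≠ 0 := by
      intro hk0
      obtain ⟨v, hv⟩ := exists_ne (0 : V)
      have := hk' v
      rw [hk0, zero_mul, ← map_zero e] at this
      exact hv ((LinearEquiv.map_eq_zero_iff _).1 (e.injective this))
    refine ⟨Units.mk0 (j k) ((map_ne_zero_iff j j.injective).2 hk0), j (e a),
      j.symm.trans (σ.trans j), fun z => ?_⟩
    obtain ⟨x, rfl⟩ := E.surjective z
    show E ((g : Equiv.Perm α) (E.symm (E x))) = j k * (j (σ (j.symm (E x)))) + _
    rw [E.symm_apply_apply]
    obtain ⟨b, rfl⟩ := φ.surjective x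
    have hgb : (g : Equiv.Perm α) (φ b) = φ (a + c ⟨_, hh⟩ b) := by
      show g • φ b = _
      rw [← hT, hcx, ← mul_smul]
      show g • φ b = (T a * (T (-a) * g)) • φ b
      rw [mul_smul, mul_smul]
      obtain ⟨d, hd⟩ := φ.surjective (g • φ b)
      rw [← hd, hT, hT, add_neg_cancel_left]
    rw [hgb, hE, hE, RingEquiv.symm_apply_apply, map_add, map_add, hk', map_mul, add_comm]
  · intro b
    refine ⟨T (e.symm (j.symm b)), fun x => ?_⟩
    obtain ⟨a, rfl⟩ := φ.surjective x
    show E (T (e.symm (j.symm b)) • φ a) = _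
    rw [hT, hE, hE, map_add, map_add, AddEquiv.apply_symm_apply, RingEquiv.apply_symm_apply, add_comm]

theorem kantor (hFT : FTConsumers.OddOrder.{u}) (hne : G ≠ ⊥)
    (h2 : MulAction.IsPretransitive G (Set.powersetCard α 2))
    (hn2 : ¬ MulAction.IsMultiplyPretransitive G α 2) :
    Odd (Nat.card G) ∧ ∃ (p f : ℕ) (_ : Fact p.Prime), p ≠ 2 ∧ Fintype.card α = p ^ f ∧
      p ^ f % 4 = 3 ∧ ∃ e : α ≃ GaloisField p f,
        (∀ g : G, e.symm.trans (((g : Equiv.Perm α)).trans e) ∈
          Cfsg.semiaffineGroup (GaloisField p f)) ∧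
        ∀ b : GaloisField p f, ∃ g : G, ∀ x : α, e ((g : Equiv.Perm α) x) = e x + b := by
  classical
  have hα := three_le_card G hne hn2
  have hodd : Odd (Nat.card G) := Nat.not_even_iff_odd.1 fun h => hn2 ((S0735.result G h2 hα).1 h)
  refine ⟨hodd, ?_⟩
  haveI := (S0735.result G h2 hα).2 hne
  haveI : Group.IsSolvable G := hFT G hodd
  obtain ⟨p, A, hp, hAn, hAc, hAp, hreg⟩ := exists_regular G hne
  haveI := Fact.mk hp
  haveI := hAn
  letI : CommGroup A := { (inferInstance : Group A) with
    mul_comm := fun a b => Subtype.ext (hAc a a.2 b b.2) }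
  have hVp : ∀ v : Additive A, p • v = 0 := fun v => by
    show Additive.ofMul (Additive.toMul v ^ p) = 0
    rw [show Additive.toMul v ^ p = 1 from Subtype.ext (hAp _ (Additive.toMul v).2)]
    rfl
  letI : Module (ZMod p) (Additive A) := AddCommGroup.zmodModule hVp
  obtain ⟨x0⟩ : Nonempty α := Fintype.card_pos_iff.1 (by omega)
  set φ : Additive A ≃ α := Additive.toMul.trans (Equiv.ofBijective _ (hreg x0)) with hφ
  have hcardV : Nat.card (Additive A) = Fintype.card α := by
    rw [← Nat.card_eq_fintype_card]; exact Nat.card_congr φ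
  haveI : Nontrivial (Additive A) := Finite.one_lt_card_iff_nontrivial.1 (by rw [hcardV]; omega)
  have hp2 : p ≠ 2 := by
    intro h2'
    obtain ⟨v, hv⟩ := exists_ne (0 : Additive A)
    have ho : orderOf ((Additive.toMul v : A) : G) = 2 :=
      orderOf_eq_prime (h2' ▸ hAp _ (Additive.toMul v).2)
        (fun e => hv (congrArg Additive.ofMul (Subtype.ext e : (Additive.toMul v : A) = 1)))
    exact Nat.not_even_iff_odd.2 hodd (even_iff_two_dvd.2 (ho ▸ orderOf_dvd_natCard _))
  refine kantor_of_regular hodd hp2 hVp h2 φ (fun v => ((Additive.toMul v : A) : G))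
    (fun v w => ?_) (fun g v => ⟨Additive.ofMul ⟨_, hAn.conj_mem _ (Additive.toMul v).2 g⟩, rfl⟩)
  show ((Additive.toMul v : A) : G) • ((Additive.toMul w : A) : G) • x0 = _
  rw [← mul_smul]
  rfl

end Cfsg.Agent.FTConsumersB
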